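import Mathlib

/-!
# Hartogs for affine schemes of unique factorisation domains
-/

set_option autoImplicit false
set_option linter.style.haveILetI false
set_option backward.isDefEq.respectTransparency false

universe u

open CategoryTheory Limits AlgebraicGeometry TopologicalSpace IsLocalRing

noncomputable section

namespace WeilExtLib

/-- In a factorial domain, a fraction without poles is integral. -/
theorem mem_range_of_forall_prime {A K : Type u} [CommRing A] [IsDomain A] [UniqueFactorizationMonoid A] [Field K]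
    [Algebra A K] [IsFractionRing A K] (k : K)
    (h : ∀ π : A, Prime π → ∃ c d : A, ¬ π ∣ d ∧ k * algebraMap A K d = algebraMap A K c) :
    ∃ a : A, algebraMap A K a = k := by
  obtain ⟨a, b, hab, rfl⟩ := IsFractionRing.exists_reduced_fraction (A := A) k
  by_cases hb : IsUnit (b : A)
  · obtain ⟨b', hb'⟩ := hb.exists_left_inv
    refine ⟨b' * a, ?_⟩
    rw [IsLocalization.eq_mk'_iff_mul_eq, ← map_mul, mul_comm, ← mul_assoc, mul_comm (b : A), hb', one_mul]
  exfalso
  obtain ⟨π, hπ, hπb⟩ := WfDvdMonoid.exists_irreducible_factor hb (nonZeroDivisors.ne_zero b.2)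
  have hπ' := hπ.prime
  obtain ⟨c, d, hd, hk⟩ := h π hπ'
  have h1 : a * d = c * b := by
    apply IsFractionRing.injective A K
    rw [map_mul, map_mul, ← hk, mul_right_comm, IsLocalization.mk'_spec]
  have h2 : π ∣ a * d := h1 ▸ dvd_mul_of_dvd_right hπb c
  exact hπ.not_isUnit (hab ((hπ'.dvd_or_dvd h2).resolve_right hd) hπb)

/-- Sections over an open containing all divisors of an affine factorial scheme extend. -/
theorem bijective_res {T : Scheme.{u}} [IsIntegral T] [IsAffine T] [UniqueFactorizationMonoid Γ(T, ⊤)] (O : T.Opens)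
    [Nonempty O] (h : ∀ π : Γ(T, ⊤), Prime π → ∃ d, ¬ π ∣ d ∧ T.basicOpen d ≤ O) :
    Function.Bijective (T.presheaf.map (homOfLE (le_top : O ≤ ⊤)).op) := by
  haveI : Nonempty (⊤ : T.Opens) := ⟨⟨genericPoint T, trivial⟩⟩
  have hres : ∀ {U V : T.Opens} [Nonempty U] [Nonempty V] (i : U ≤ V) (s : Γ(T, V)),
      T.germToFunctionField U (T.presheaf.map (homOfLE i).op s) = T.germToFunctionField V s := by
    intro U V _ _ i s
    exact T.presheaf.germ_res_apply (homOfLE i) _ _ s
  haveI := functionField_isFractionRing_of_isAffineOpen T ⊤ (isAffineOpen_top T)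
  refine ⟨map_injective_of_isIntegral T _, fun s => ?_⟩
  suffices H : ∀ π : Γ(T, ⊤), Prime π → ∃ c d : Γ(T, ⊤), ¬ π ∣ d ∧ T.germToFunctionField O s *
      algebraMap Γ(T, ⊤) T.functionField d = algebraMap Γ(T, ⊤) T.functionField c by
    obtain ⟨a, ha⟩ := mem_range_of_forall_prime (A := Γ(T, ⊤)) (T.germToFunctionField O s) H
    exact ⟨a, T.germToFunctionField_injective O ((hres le_top a).trans ha)⟩
  intro π hπ
  obtain ⟨d, hd, hdO⟩ := h π hπ
  haveI : Nonempty (T.basicOpen d) := by
    obtain ⟨x, hx⟩ := (TopologicalSpace.Opens.ne_bot_iff_nonempty _).1 fun hbot : T.basicOpen d = ⊥ =>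
      hd ((basicOpen_eq_bot_iff d).1 hbot ▸ dvd_zero π)
    exact ⟨⟨x, hx⟩⟩
  haveI := (isAffineOpen_top T).isLocalization_basicOpen d
  obtain ⟨n, c, hc⟩ := IsLocalization.Away.surj d (T.presheaf.map (homOfLE hdO).op s)
  refine ⟨c, d ^ n, fun hdn => hd (hπ.dvd_of_dvd_pow hdn), ?_⟩
  have e := congrArg (T.germToFunctionField (T.basicOpen d)) hc
  rw [map_mul, map_pow, hres hdO] at e
  have e' : ∀ r : Γ(T, ⊤), T.germToFunctionField (T.basicOpen d) (algebraMap Γ(T, ⊤) Γ(T, T.basicOpen d) r) =
      T.germToFunctionField ⊤ r := fun r => hres le_top r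
  rw [e', e'] at e
  rw [map_pow]
  exact e

/-- Maps to affine schemes extend over an affine factorial scheme from an open containing all divisors. -/
theorem exists_ext_affine (A : CommRingCat.{u}) [IsDomain A] [UniqueFactorizationMonoid A] (O : (Spec A).Opens)
    [Nonempty O] (h : ∀ (π : A) (hπ : Prime π),
      (⟨Ideal.span {π}, (Ideal.span_singleton_prime hπ.ne_zero).2 hπ⟩ : PrimeSpectrum A) ∈ O)
    {W : Scheme.{u}} [IsAffine W] (g : O.toScheme ⟶ W) : ∃ l : Spec A ⟶ W, O.ι ≫ l = g := by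
  let e := (Scheme.ΓSpecIso A).commRingCatIsoToRingEquiv
  haveI : UniqueFactorizationMonoid Γ(Spec A, ⊤) := e.symm.toMulEquiv.uniqueFactorizationMonoid inferInstance
  have hO' : O.ι ''ᵁ ⊤ = O := by simp
  haveI : Nonempty (O.ι ''ᵁ ⊤ : (Spec A).Opens) := by rw [hO']; infer_instance
  have hb : Function.Bijective O.ι.appTop := by
    rw [Scheme.Opens.ι_appTop]
    refine bijective_res _ fun π hπ => ?_
    have hπ' : Prime (e π) := (MulEquiv.prime_iff e.toMulEquiv).2 hπ
    obtain ⟨_, ⟨d, rfl⟩, hd, hdO⟩ := (PrimeSpectrum.isTopologicalBasis_basic_opens (R := A)).exists_subset_of_mem_open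
      (h (e π) hπ') O.2
    refine ⟨(Scheme.ΓSpecIso A).inv d, fun hdvd => hd (Ideal.mem_span_singleton.2 ?_), ?_⟩
    · have := map_dvd e hdvd
      have e1 : e ((Scheme.ΓSpecIso A).inv d) = d := e.apply_symm_apply d
      rwa [e1] at this
    · rw [basicOpen_eq_of_affine, hO']
      exact hdO
  haveI : IsIso O.ι.appTop := (ConcreteCategory.isIso_iff_bijective _).2 hb
  refine ⟨(Spec A).toSpecΓ ≫ Spec.map (g.appTop ≫ inv O.ι.appTop) ≫ W.isoSpec.inv, ?_⟩
  rw [← cancel_mono W.isoSpec.hom, Category.assoc, Category.assoc, Category.assoc, Iso.inv_hom_id, Category.comp_id,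
    Scheme.toSpecΓ_naturality_assoc, ← Spec.map_comp, Category.assoc, IsIso.inv_hom_id, Category.comp_id,
    ← Scheme.toSpecΓ_naturality]
  rfl

/-- A nonunit lies in a prime of height at most one above the given element. -/
theorem exists_prime_height_le_one {A B : Type u} [CommRing A] [CommRing B] [IsNoetherianRing B] (φ : A →+* B)
    [IsLocalHom φ] (π : A) (hπ : ¬ IsUnit π) :
    ∃ (p : Ideal B) (_ : p.IsPrime), p.height ≤ 1 ∧ Ideal.span {π} ≤ p.comap φ := by
  have h : Ideal.span {φ π} ≠ ⊤ := by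
    rw [Ne, Ideal.span_singleton_eq_top]
    exact fun hu => hπ (isUnit_of_map_unit φ π hu)
  obtain ⟨p, hp⟩ := Ideal.nonempty_minimalPrimes h
  refine ⟨p, hp.1.1, Ideal.height_le_one_of_isPrincipal_of_mem_minimalPrimes _ p hp, ?_⟩
  rw [Ideal.span_singleton_le_iff_mem, Ideal.mem_comap]
  exact hp.1.2 (Ideal.mem_span_singleton_self _)

/-- The dimension of the local ring at a generisation is the height of the corresponding prime. -/
theorem ringKrullDim_fromSpecStalk {X : Scheme.{u}} (x : X) (p : PrimeSpectrum (X.presheaf.stalk x)) :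
    ringKrullDim (X.presheaf.stalk (X.fromSpecStalk x p)) = (p.asIdeal.height : WithBot ℕ∞) := by
  obtain ⟨U, hU, hxU, -⟩ := exists_isAffineOpen_mem_and_subset (x := x) (U := ⊤) trivial
  letI := TopCat.Presheaf.algebra_section_stalk X.presheaf (⟨x, hxU⟩ : U)
  haveI : IsLocalization.AtPrime (X.presheaf.stalk x) (hU.primeIdealOf ⟨x, hxU⟩).asIdeal :=
    hU.isLocalization_stalk ⟨x, hxU⟩
  have hmem : X.fromSpecStalk x p ∈ U := by
    have hsp : X.fromSpecStalk x p ⤳ x := by
      have h : p ⤳ closedPoint (X.presheaf.stalk x) := specializes_closedPoint p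
      have := h.map (X.fromSpecStalk x).continuous
      rwa [Scheme.fromSpecStalk_closedPoint] at this
    exact hsp.mem_open U.2 hxU
  have hq : hU.primeIdealOf ⟨X.fromSpecStalk x p, hmem⟩ = PrimeSpectrum.comap (algebraMap Γ(X, U) (X.presheaf.stalk x)) p := by
    apply hU.fromSpec.isOpenEmbedding.injective
    rw [IsAffineOpen.fromSpec_primeIdealOf]
    show X.fromSpecStalk x p = hU.fromSpec (Spec.map (X.presheaf.germ U x hxU) p)
    rw [← Scheme.Hom.comp_apply]
    exact congr($((hU.fromSpecStalk_eq_fromSpecStalk hxU).symm).base p)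
  letI := TopCat.Presheaf.algebra_section_stalk X.presheaf (⟨X.fromSpecStalk x p, hmem⟩ : U)
  haveI : IsLocalization.AtPrime (X.presheaf.stalk (X.fromSpecStalk x p)) (hU.primeIdealOf ⟨X.fromSpecStalk x p, hmem⟩).asIdeal :=
    hU.isLocalization_stalk ⟨X.fromSpecStalk x p, hmem⟩
  rw [IsLocalization.AtPrime.ringKrullDim_eq_height (hU.primeIdealOf ⟨X.fromSpecStalk x p, hmem⟩).asIdeal, hq]
  exact congrArg _ (IsLocalization.height_under (hU.primeIdealOf ⟨x, hxU⟩).asIdeal.primeCompl p.asIdeal)

end WeilExtLib
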