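import Groth.Agent.WeilExtLib.Smooth
import Groth.Agent.WeilExtLib.Hartogs
import Groth.Agent.MonoQuotLib.Orbit

/-!
# Extension of rational maps into group schemes
-/

set_option autoImplicit false
set_option linter.style.haveILetI false
set_option backward.isDefEq.respectTransparency false
set_option maxHeartbeats 800000

universe u

open CategoryTheory CategoryTheory.Limits MonoidalCategory CartesianMonoidalCategory AlgebraicGeometry TopologicalSpace IsLocalRing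
open scoped MonObj

noncomputable section

namespace WeilExtLib

/-- A morphism with values in an open subscheme. -/
def resTo {X Y : Scheme.{u}} (U : X.Opens) (φ : Y ⟶ X) (h : ∀ y, φ y ∈ U) : Y ⟶ U.toScheme :=
  IsOpenImmersion.lift U.ι φ (by rintro _ ⟨y, rfl⟩; rw [Scheme.Opens.range_ι]; exact h y)

@[reassoc]
theorem resTo_ι {X Y : Scheme.{u}} (U : X.Opens) (φ : Y ⟶ X) (h : ∀ y, φ y ∈ U) : resTo U φ h ≫ U.ι = φ :=
  IsOpenImmersion.lift_fac _ _ _

theorem eq_resTo {X Y : Scheme.{u}} (U : X.Opens) (φ : Y ⟶ X) (h : ∀ y, φ y ∈ U) (a : Y ⟶ U.toScheme) (ha : a ≫ U.ι = φ) :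
    a = resTo U φ h := by rw [← cancel_mono U.ι, resTo_ι, ha]

theorem ι_mem {X : Scheme.{u}} {U : X.Opens} {Y : Scheme.{u}} (a : Y ⟶ U.toScheme) (y : Y) : (a ≫ U.ι) y ∈ U := (a y).2

section group

variable {S G : Scheme.{u}} (pG : G ⟶ S) [GrpObj (Over.mk pG)] {T T' : Scheme.{u}}

/-- Product of two relative points. -/
def pr (t : T ⟶ S) (a b : T ⟶ G) (ha : a ≫ pG = t) (hb : b ≫ pG = t) : T ⟶ G :=
  ((Over.homMk a ha : Over.mk t ⟶ Over.mk pG) * Over.homMk b hb).left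

/-- Quotient of two relative points. -/
def dv (t : T ⟶ S) (a b : T ⟶ G) (ha : a ≫ pG = t) (hb : b ≫ pG = t) : T ⟶ G :=
  ((Over.homMk a ha : Over.mk t ⟶ Over.mk pG) * (Over.homMk b hb : Over.mk t ⟶ Over.mk pG)⁻¹).left

/-- The unit section. -/
def unitSec : S ⟶ G := (η[Over.mk pG] : 𝟙_ (Over S) ⟶ Over.mk pG).left

theorem unitSec_comp : unitSec pG ≫ pG = 𝟙 S := Over.w (η[Over.mk pG] : 𝟙_ (Over S) ⟶ Over.mk pG)

theorem pr_comp {t : T ⟶ S} {a b : T ⟶ G} (ha : a ≫ pG = t) (hb : b ≫ pG = t) : pr pG t a b ha hb ≫ pG = t :=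
  Over.w ((Over.homMk a ha : Over.mk t ⟶ Over.mk pG) * Over.homMk b hb)

theorem dv_comp {t : T ⟶ S} {a b : T ⟶ G} (ha : a ≫ pG = t) (hb : b ≫ pG = t) : dv pG t a b ha hb ≫ pG = t :=
  Over.w ((Over.homMk a ha : Over.mk t ⟶ Over.mk pG) * (Over.homMk b hb : Over.mk t ⟶ Over.mk pG)⁻¹)

theorem comp_pr (ψ : T' ⟶ T) {t : T ⟶ S} {a b : T ⟶ G} (ha : a ≫ pG = t) (hb : b ≫ pG = t) :
    ψ ≫ pr pG t a b ha hb = pr pG (ψ ≫ t) (ψ ≫ a) (ψ ≫ b) (by rw [Category.assoc, ha]) (by rw [Category.assoc, hb]) :=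
  congrArg CommaMorphism.left (MonObj.comp_mul (Over.homMk ψ rfl : Over.mk (ψ ≫ t) ⟶ Over.mk t)
    (Over.homMk a ha : Over.mk t ⟶ Over.mk pG) (Over.homMk b hb))

theorem comp_dv (ψ : T' ⟶ T) {t : T ⟶ S} {a b : T ⟶ G} (ha : a ≫ pG = t) (hb : b ≫ pG = t) :
    ψ ≫ dv pG t a b ha hb = dv pG (ψ ≫ t) (ψ ≫ a) (ψ ≫ b) (by rw [Category.assoc, ha]) (by rw [Category.assoc, hb]) := by
  have h := MonObj.comp_mul (Over.homMk ψ rfl : Over.mk (ψ ≫ t) ⟶ Over.mk t)
    (Over.homMk a ha : Over.mk t ⟶ Over.mk pG) (Over.homMk b hb : Over.mk t ⟶ Over.mk pG)⁻¹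
  rw [GrpObj.comp_inv] at h
  exact congrArg CommaMorphism.left h

theorem dv_self {t : T ⟶ S} {a b : T ⟶ G} (ha : a ≫ pG = t) (hb : b ≫ pG = t) (h : a = b) :
    dv pG t a b ha hb = t ≫ unitSec pG := by
  subst h
  show ((Over.homMk a ha : Over.mk t ⟶ Over.mk pG) * (Over.homMk a ha : Over.mk t ⟶ Over.mk pG)⁻¹).left = _
  rw [mul_inv_cancel, Hom.one_def]
  rfl

theorem pr_dv {t : T ⟶ S} {a b c b' : T ⟶ G} (ha : a ≫ pG = t) (hb : b ≫ pG = t) (hc : c ≫ pG = t) (hb' : b' ≫ pG = t)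
    (h : c = dv pG t a b ha hb) (h' : b' = b) : pr pG t c b' hc hb' = a := by
  subst h h'
  show ((Over.homMk (dv pG t a b' ha hb) hc : Over.mk t ⟶ Over.mk pG) * Over.homMk b' hb').left = _
  have e : (Over.homMk (dv pG t a b' ha hb) hc : Over.mk t ⟶ Over.mk pG) =
      (Over.homMk a ha : Over.mk t ⟶ Over.mk pG) * (Over.homMk b' hb : Over.mk t ⟶ Over.mk pG)⁻¹ := Over.OverMorphism.ext rfl
  rw [e, inv_mul_cancel_right]
  rfl

end group

/-- Extension near a point through a morphism from the spectrum of the local ring. -/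
theorem exists_extend_at {S P A : Scheme.{u}} [IsLocallyNoetherian P] (sP : P ⟶ S) (sA : A ⟶ S) [IsSeparated sA]
    [LocallyOfFiniteType sA] (D : P.Opens) (g : D.toScheme ⟶ A) (hg : g ≫ sA = D.ι ≫ sP) (z : P)
    [IsDomain (P.presheaf.stalk z)] (O : P.Opens) (hOD : O ≤ D) (l : Spec (P.presheaf.stalk z) ⟶ A)
    (hl₁ : l ≫ sA = P.fromSpecStalk z ≫ sP)
    (hl₂ : (P.fromSpecStalk z ⁻¹ᵁ O).ι ≫ l = (P.fromSpecStalk z ∣_ O) ≫ P.homOfLE hOD ≫ g)
    (hne : ∃ t, P.fromSpecStalk z t ∈ O) :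
    ∃ (N : P.Opens) (gN : N.toScheme ⟶ A), z ∈ N ∧ gN ≫ sA = N.ι ≫ sP ∧
      P.homOfLE (inf_le_right : D ⊓ N ≤ N) ≫ gN = P.homOfLE (inf_le_left : D ⊓ N ≤ D) ≫ g := by
  obtain ⟨M, hzM, -, -, hMint⟩ := exists_integral_nhd z ⊤ trivial
  haveI := hMint
  let Q := M.toScheme
  let gq := genericPoint Q
  let z' : Q := ⟨z, hzM⟩
  let OQ : Q.Opens := M.ι ⁻¹ᵁ D
  have hgqO : gq ∈ M.ι ⁻¹ᵁ O := by
    obtain ⟨t, ht⟩ := hne
    have hsp : P.fromSpecStalk z t ⤳ z := by
      have h : t ⤳ closedPoint (P.presheaf.stalk z) := specializes_closedPoint t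
      have := h.map (P.fromSpecStalk z).continuous
      rwa [Scheme.fromSpecStalk_closedPoint] at this
    exact ((genericPoint_spec Q).specializes trivial : gq ⤳ (⟨_, hsp.mem_open M.2 hzM⟩ : Q)).mem_open (M.ι ⁻¹ᵁ O).2 ht
  have hgqD : gq ∈ OQ := hOD hgqO
  let gQ : OQ.toScheme ⟶ A := (M.ι ∣_ D) ≫ g
  have hgQ : gQ ≫ sA = OQ.ι ≫ M.ι ≫ sP := by
    show ((M.ι ∣_ D) ≫ g) ≫ sA = _
    rw [Category.assoc, hg, morphismRestrict_ι_assoc]
  let β : P.presheaf.stalk z ⟶ Q.presheaf.stalk z' := M.ι.stalkMap z'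
  haveI : IsIso β := inferInstanceAs (IsIso (M.ι.stalkMap z'))
  let β' : Spec (Q.presheaf.stalk z') ⟶ Spec (P.presheaf.stalk z) := Spec.map β
  have hβ : β' ≫ P.fromSpecStalk z = Q.fromSpecStalk z' ≫ M.ι := Scheme.SpecMap_stalkMap_fromSpecStalk M.ι
  have hsp : gq ⤳ z' := (genericPoint_spec Q).specializes trivial
  let c : Spec (Q.presheaf.stalk gq) ⟶ Spec (P.presheaf.stalk z) := Spec.map (Q.presheaf.stalkSpecializes hsp) ≫ β'
  have hc : c ≫ P.fromSpecStalk z = Q.fromSpecStalk gq ≫ M.ι := by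
    show (_ ≫ β') ≫ _ = _
    rw [Category.assoc, hβ, Scheme.SpecMap_stalkSpecializes_fromSpecStalk_assoc]
  obtain ⟨W, fW, hzW, hfW, hagree⟩ := exists_extend_of_lift (M.ι ≫ sP) sA OQ hgqD gQ hgQ z' (β' ≫ l)
    (by rw [Category.assoc, hl₁, ← Category.assoc, hβ, Category.assoc])
    (by
      haveI : Subsingleton ↥(Spec (Q.presheaf.stalk gq)) := inferInstanceAs (Subsingleton (PrimeSpectrum Q.functionField))
      have hmem : ∀ p, c p ∈ P.fromSpecStalk z ⁻¹ᵁ O := fun p => by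
        show P.fromSpecStalk z (c p) ∈ O
        rw [← Scheme.Hom.comp_apply, hc, Scheme.Hom.comp_apply, Subsingleton.elim p (closedPoint _),
          Scheme.fromSpecStalk_closedPoint]
        exact hgqO
      show Spec.map (Q.presheaf.stalkSpecializes hsp) ≫ β' ≫ l = OQ.fromSpecStalkOfMem gq hgqD ≫ (M.ι ∣_ D) ≫ g
      rw [← Category.assoc]
      show c ≫ l = _
      rw [← resTo_ι _ c hmem, Category.assoc, hl₂, ← Category.assoc (P.fromSpecStalk z ∣_ O), ← Category.assoc,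
        ← Category.assoc (OQ.fromSpecStalkOfMem gq hgqD)]
      congr 1
      rw [← cancel_mono D.ι, Category.assoc, Category.assoc, Category.assoc, Scheme.homOfLE_ι, morphismRestrict_ι,
        resTo_ι_assoc, hc, morphismRestrict_ι, Scheme.Opens.fromSpecStalkOfMem_ι_assoc])
  let N : P.Opens := M.ι ''ᵁ W
  refine ⟨N, (M.ι.isoImage W).inv ≫ fW, ⟨z', hzW, rfl⟩, ?_, ?_⟩
  · rw [Category.assoc, hfW]
    exact Scheme.Hom.isoImage_inv_ι_assoc M.ι W sP
  let k : (D ⊓ N).toScheme ⟶ (OQ ⊓ W).toScheme := IsOpenImmersion.lift ((OQ ⊓ W).ι ≫ M.ι) (D ⊓ N).ι (by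
    rintro _ ⟨⟨p, hpD, w, hw, rfl⟩, rfl⟩
    exact ⟨⟨w, hpD, hw⟩, rfl⟩)
  have hk : k ≫ (OQ ⊓ W).ι ≫ M.ι = (D ⊓ N).ι := IsOpenImmersion.lift_fac _ _ _
  have e1 : k ≫ Q.homOfLE (inf_le_right : OQ ⊓ W ≤ W) = P.homOfLE (inf_le_right : D ⊓ N ≤ N) ≫ (M.ι.isoImage W).inv := by
    rw [← cancel_mono W.ι, ← cancel_mono M.ι, Category.assoc, Category.assoc, Category.assoc, Category.assoc,
      Scheme.Hom.isoImage_inv_ι, Scheme.homOfLE_ι, Scheme.homOfLE_ι_assoc, hk]
  have e2 : k ≫ Q.homOfLE (inf_le_left : OQ ⊓ W ≤ OQ) ≫ (M.ι ∣_ D) = P.homOfLE (inf_le_left : D ⊓ N ≤ D) := by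
    rw [← cancel_mono D.ι, Category.assoc, Category.assoc, morphismRestrict_ι, Scheme.homOfLE_ι_assoc, Scheme.homOfLE_ι]
    exact hk
  rw [← Category.assoc, ← e1, Category.assoc, hagree, ← e2]
  simp only [gQ, Category.assoc]
  rfl

section main

variable {S X G : Scheme.{u}} (pX : X ⟶ S) (pG : G ⟶ S) [GrpObj (Over.mk pG)] [IsSeparated pG] [LocallyOfFiniteType pG]
  [Smooth pX] [IsLocallyNoetherian S] (hregS : ∀ s : S, IsRegularLocalRing (S.presheaf.stalk s))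
  (U : X.Opens) (f : U.toScheme ⟶ G) (hf : f ≫ pG = U.ι ≫ pX)

/-- The open set on which the difference map is defined. -/
def diagDom : (pullback pX pX).Opens := pullback.fst pX pX ⁻¹ᵁ U ⊓ pullback.snd pX pX ⁻¹ᵁ U

include hf in
theorem over_fst {T : Scheme.{u}} (ψ : T ⟶ pullback pX pX) (h : ∀ t, (ψ ≫ pullback.fst pX pX) t ∈ U) :
    (resTo U (ψ ≫ pullback.fst pX pX) h ≫ f) ≫ pG = ψ ≫ pullback.fst pX pX ≫ pX := by
  rw [Category.assoc, hf, resTo_ι_assoc, Category.assoc]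

include hf in
theorem over_snd {T : Scheme.{u}} (ψ : T ⟶ pullback pX pX) (h : ∀ t, (ψ ≫ pullback.snd pX pX) t ∈ U) :
    (resTo U (ψ ≫ pullback.snd pX pX) h ≫ f) ≫ pG = ψ ≫ pullback.fst pX pX ≫ pX := by
  rw [Category.assoc, hf, resTo_ι_assoc, Category.assoc, pullback.condition]

/-- The difference map `(x, y) ↦ f x * (f y)⁻¹`. -/
def diffMap : (diagDom pX U).toScheme ⟶ G :=
  dv pG ((diagDom pX U).ι ≫ pullback.fst pX pX ≫ pX)
    (resTo U ((diagDom pX U).ι ≫ pullback.fst pX pX) (fun d => d.2.1) ≫ f)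
    (resTo U ((diagDom pX U).ι ≫ pullback.snd pX pX) (fun d => d.2.2) ≫ f)
    (over_fst pX pG U f hf _ _) (over_snd pX pG U f hf _ _)

theorem diffMap_comp : diffMap pX pG U f hf ≫ pG = (diagDom pX U).ι ≫ pullback.fst pX pX ≫ pX := dv_comp _ _ _

/-- On the diagonal the difference map is the unit section. -/
theorem diag_diffMap (h : ∀ u, (U.ι ≫ pullback.diagonal pX) u ∈ diagDom pX U) :
    resTo (diagDom pX U) (U.ι ≫ pullback.diagonal pX) h ≫ diffMap pX pG U f hf = (U.ι ≫ pX) ≫ unitSec pG := by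
  rw [diffMap, comp_dv]
  have e : ∀ p : pullback pX pX ⟶ X, pullback.diagonal pX ≫ p = 𝟙 X →
      resTo (diagDom pX U) (U.ι ≫ pullback.diagonal pX) h ≫ (diagDom pX U).ι ≫ p = U.ι := fun p hp => by
    rw [resTo_ι_assoc, Category.assoc, hp, Category.comp_id]
  rw [dv_self pG]
  · congr 1
    rw [← Category.assoc (diagDom pX U).ι, ← Category.assoc, e _ (pullback.diagonal_fst _)]
  · rw [← Category.assoc, ← Category.assoc]
    congr 1
    rw [← cancel_mono U.ι, Category.assoc, Category.assoc, resTo_ι, resTo_ι, e _ (pullback.diagonal_fst _),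
      e _ (pullback.diagonal_snd _)]

include hregS in
/-- Regularity of the local rings of the self product. -/
theorem isRegular_stalk_prod (z : ↥(pullback pX pX)) : IsRegularLocalRing ((pullback pX pX).presheaf.stalk z) := by
  haveI : Smooth (pullback.fst pX pX) := MorphismProperty.pullback_fst (P := @Smooth) _ _ ‹_›
  haveI : IsLocallyNoetherian (pullback pX pX) := LocallyOfFiniteType.isLocallyNoetherian (pullback.fst pX pX ≫ pX)
  haveI := hregS ((pullback.fst pX pX ≫ pX) z)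
  exact BlowUpLib.isRegularLocalRing_stalk_of_smooth (pullback.fst pX pX ≫ pX) z

include hregS hf in
/-- The difference map extends near a diagonal point. -/
theorem exists_extend_diag (x : X) (hcod : ∀ x' : X, x' ⤳ x → ringKrullDim (X.presheaf.stalk x') ≤ 1 → x' ∈ U) :
    ∃ (N : (pullback pX pX).Opens) (gN : N.toScheme ⟶ G), pullback.diagonal pX x ∈ N ∧
      gN ≫ pG = N.ι ≫ pullback.fst pX pX ≫ pX ∧
      (pullback pX pX).homOfLE (inf_le_right : diagDom pX U ⊓ N ≤ N) ≫ gN =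
        (pullback pX pX).homOfLE (inf_le_left : diagDom pX U ⊓ N ≤ diagDom pX U) ≫ diffMap pX pG U f hf := by
  haveI : IsLocallyNoetherian X := LocallyOfFiniteType.isLocallyNoetherian pX
  haveI : Smooth (pullback.fst pX pX) := MorphismProperty.pullback_fst (P := @Smooth) _ _ ‹_›
  haveI : IsLocallyNoetherian (pullback pX pX) := LocallyOfFiniteType.isLocallyNoetherian (pullback.fst pX pX ≫ pX)
  let P := pullback pX pX
  let sP : P ⟶ S := pullback.fst pX pX ≫ pX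
  let z : P := pullback.diagonal pX x
  haveI := isRegular_stalk_prod pX hregS z
  haveI : IsDomain (P.presheaf.stalk z) := CommAlgDim.isDomain_of_isRegularLocalRing _
  haveI : UniqueFactorizationMonoid (P.presheaf.stalk z) := RegUFDLib.uniqueFactorizationMonoid _
  have hsz : sP z = pX x := by
    rw [← Scheme.Hom.comp_apply, pullback.diagonal_fst_assoc]
  let e := unitSec pG
  obtain ⟨S₀, hS₀, hsS₀, -⟩ := exists_isAffineOpen_mem_and_subset (x := pX x) (U := ⊤) trivial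
  obtain ⟨W, hW, heW, hWS⟩ := exists_isAffineOpen_mem_and_subset (x := e (pX x)) (U := pG ⁻¹ᵁ S₀)
    (show pG (e (pX x)) ∈ S₀ by rw [← Scheme.Hom.comp_apply, unitSec_comp]; exact hsS₀)
  let D := diagDom pX U
  let F := diffMap pX pG U f hf
  let O : P.Opens := D.ι ''ᵁ (F ⁻¹ᵁ W)
  have hOD : O ≤ D := by rintro _ ⟨d, -, rfl⟩; exact d.2
  let gW : O.toScheme ⟶ W.toScheme := resTo W (P.homOfLE hOD ≫ F) (by
    rintro ⟨_, d, hd, rfl⟩
    have : P.homOfLE hOD ⟨_, d, hd, rfl⟩ = d := D.ι.isOpenEmbedding.injective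
      (by rw [← Scheme.Hom.comp_apply, Scheme.homOfLE_ι]; rfl)
    rw [Scheme.Hom.comp_apply, this]
    exact hd)
  let τ := P.fromSpecStalk z
  let δ := (pullback.diagonal pX).stalkMap x
  have hdiag : ∀ u, (U.ι ≫ pullback.diagonal pX) u ∈ D := fun u => by
    refine ⟨?_, ?_⟩
    · show (pullback.fst pX pX) ((U.ι ≫ pullback.diagonal pX) u) ∈ U
      rw [← Scheme.Hom.comp_apply, Category.assoc, pullback.diagonal_fst, Category.comp_id]
      exact u.2
    · show (pullback.snd pX pX) ((U.ι ≫ pullback.diagonal pX) u) ∈ U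
      rw [← Scheme.Hom.comp_apply, Category.assoc, pullback.diagonal_snd, Category.comp_id]
      exact u.2
  have hgood : ∀ p : PrimeSpectrum (X.presheaf.stalk x), p.asIdeal.height ≤ 1 →
      (Spec.map δ p : Spec (P.presheaf.stalk z)) ∈ τ ⁻¹ᵁ O := by
    intro p hp
    let x' := X.fromSpecStalk x p
    have hx' : x' ⤳ x := by
      have h : p ⤳ closedPoint (X.presheaf.stalk x) := specializes_closedPoint p
      have := h.map (X.fromSpecStalk x).continuous
      rwa [Scheme.fromSpecStalk_closedPoint] at this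
    have hU' : x' ∈ U := hcod x' hx' (by
      rw [ringKrullDim_fromSpecStalk]
      exact WithBot.coe_le_coe.2 hp)
    show τ (Spec.map δ p) ∈ O
    rw [← Scheme.Hom.comp_apply, Scheme.SpecMap_stalkMap_fromSpecStalk, Scheme.Hom.comp_apply]
    let d := resTo D (U.ι ≫ pullback.diagonal pX) hdiag ⟨x', hU'⟩
    refine ⟨d, ?_, ?_⟩
    · show F d ∈ W
      rw [← Scheme.Hom.comp_apply, diag_diffMap, Scheme.Hom.comp_apply, Scheme.Hom.comp_apply]
      exact ((hx'.map pX.continuous).map e.continuous).mem_open W.2 heW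
    · show (resTo D (U.ι ≫ pullback.diagonal pX) hdiag ≫ D.ι) ⟨x', hU'⟩ = _
      rw [resTo_ι]
      rfl
  haveI : IsNoetherianRing (X.presheaf.stalk x) := inferInstance
  haveI : IsLocalHom δ.hom := inferInstance
  have hcov : ∀ (π : P.presheaf.stalk z) (hπ : Prime π),
      (⟨Ideal.span {π}, (Ideal.span_singleton_prime hπ.ne_zero).2 hπ⟩ : PrimeSpectrum (P.presheaf.stalk z)) ∈ τ ⁻¹ᵁ O := by
    intro π hπ
    obtain ⟨p, hp, hht, hle⟩ := exists_prime_height_le_one δ.hom π hπ.not_unit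
    exact ((PrimeSpectrum.le_iff_specializes _ (PrimeSpectrum.comap δ.hom ⟨p, hp⟩)).1 hle).mem_open (τ ⁻¹ᵁ O).2
      (hgood ⟨p, hp⟩ hht)
  obtain ⟨p₀, hp₀⟩ := Ideal.nonempty_minimalPrimes (I := (⊥ : Ideal (X.presheaf.stalk x))) bot_ne_top
  haveI := hp₀.1.1
  have hne : ∃ t, τ t ∈ O := ⟨_, hgood ⟨p₀, hp₀.1.1⟩ (by
    rw [Ideal.height_eq_zero_iff.2 hp₀]; exact zero_le')⟩
  haveI : Nonempty (τ ⁻¹ᵁ O) := ⟨⟨hne.choose, hne.choose_spec⟩⟩
  haveI : IsAffine W := hW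
  obtain ⟨l, hl⟩ := exists_ext_affine (P.presheaf.stalk z) (τ ⁻¹ᵁ O) hcov ((τ ∣_ O) ≫ gW)
  refine exists_extend_at sP pG D F (diffMap_comp pX pG U f hf) z O hOD (l ≫ W.ι) ?_ ?_ hne
  · haveI : IsDominant (τ ⁻¹ᵁ O).ι :=
      ⟨by rw [DenseRange, Scheme.Opens.range_ι]; exact (τ ⁻¹ᵁ O).2.dense ⟨_, hne.choose_spec⟩⟩
    have hm₁ : ∀ t, ((l ≫ W.ι) ≫ pG) t ∈ S₀ := fun t => hWS (l t).2
    have hm₂ : ∀ t, (τ ≫ sP) t ∈ S₀ := fun t => by
      have h : t ⤳ closedPoint (P.presheaf.stalk z) := specializes_closedPoint t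
      have h' := h.map (τ ≫ sP).continuous
      refine h'.mem_open S₀.2 ?_
      show (τ ≫ sP) (closedPoint _) ∈ S₀
      rw [Scheme.Hom.comp_apply, Scheme.fromSpecStalk_closedPoint, hsz]
      exact hsS₀
    haveI : IsAffine S₀ := hS₀
    rw [← resTo_ι S₀ _ hm₁, ← resTo_ι S₀ _ hm₂]
    congr 1
    refine ext_of_isDominant (τ ⁻¹ᵁ O).ι ?_
    rw [← cancel_mono S₀.ι, Category.assoc (τ ⁻¹ᵁ O).ι, Category.assoc (τ ⁻¹ᵁ O).ι, resTo_ι, resTo_ι, Category.assoc, ← Category.assoc _ l, hl,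
      Category.assoc, resTo_ι_assoc, Category.assoc, diffMap_comp, Scheme.homOfLE_ι_assoc, morphismRestrict_ι_assoc]
  · rw [← Category.assoc, hl, Category.assoc, resTo_ι]

/-- The diagonal point has nearby points over `x` with second coordinate in a fibrewise dense open. -/
theorem exists_mem_snd (x : X) (hdense : x ∈ closure ((U : Set X) ∩ {y | pX y = pX x})) (N : (pullback pX pX).Opens)
    (hN : pullback.diagonal pX x ∈ N) :
    ∃ z ∈ N, pullback.fst pX pX z = x ∧ pullback.snd pX pX z ∈ U := by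
  let b := Spec.map (pX.residueFieldMap x)
  let m : pullback (pX.fiberToSpecResidueField (pX x)) b ⟶ pullback pX pX :=
    pullback.lift (pullback.snd _ _ ≫ X.fromSpecResidueField x) (pullback.fst _ _ ≫ pX.fiberι (pX x)) (by
      rw [Category.assoc, Category.assoc, ← Scheme.Hom.SpecMap_residueFieldMap_fromSpecResidueField]
      show _ = pullback.fst _ _ ≫ pullback.fst _ _ ≫ pX
      rw [pullback.condition]
      exact (pullback.condition_assoc (f := pX.fiberToSpecResidueField (pX x)) (g := b) _).symm)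
  let p₀ : Spec (X.residueField x) ⟶ pullback (pX.fiberToSpecResidueField (pX x)) b :=
    pullback.lift (pX.asFiberHom x) (𝟙 _) (by rw [Category.id_comp]; exact pX.asFiberHom_fiberToSpecResidueField x)
  have hp₀ : p₀ ≫ m = X.fromSpecResidueField x ≫ pullback.diagonal pX := by
    apply pullback.hom_ext
    · simp [p₀, m]
      exact Category.id_comp _
    · simp [p₀, m]
  let pt : Spec (X.residueField x) := default
  haveI : UniversallyOpen b := inferInstance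
  haveI : UniversallyOpen (pullback.fst (pX.fiberToSpecResidueField (pX x)) b) := inferInstance
  let c := p₀ pt
  have hc : c ∈ m ⁻¹ᵁ N := by
    show m (p₀ pt) ∈ N
    rw [← Scheme.Hom.comp_apply, hp₀, Scheme.Hom.comp_apply, Scheme.fromSpecResidueField_apply]
    exact hN
  have hxc : pX.fiberι (pX x) (pullback.fst (pX.fiberToSpecResidueField (pX x)) b c) = x := by
    show pX.fiberι (pX x) ((pullback.fst (pX.fiberToSpecResidueField (pX x)) b) (p₀ pt)) = x
    rw [show (pullback.fst (pX.fiberToSpecResidueField (pX x)) b) (p₀ pt) =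
      (p₀ ≫ pullback.fst (pX.fiberToSpecResidueField (pX x)) b) pt from rfl, pullback.lift_fst, pX.asFiberHom_apply, pX.fiberι_asFiber]
  obtain ⟨O, hO, hOeq⟩ := (pX.fiberι (pX x)).isEmbedding.isInducing.isOpen_iff.1
    ((pullback.fst (pX.fiberToSpecResidueField (pX x)) b).isOpenMap _ (m ⁻¹ᵁ N).2)
  have hxO : x ∈ O := by
    have h : pullback.fst (pX.fiberToSpecResidueField (pX x)) b c ∈ (pX.fiberι (pX x)) ⁻¹' O := by
      rw [hOeq]; exact ⟨c, hc, rfl⟩
    rwa [Set.mem_preimage, hxc] at h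
  obtain ⟨y, hyO, hyU, hy⟩ := mem_closure_iff.1 hdense O hO hxO
  obtain ⟨w, rfl⟩ : y ∈ Set.range (pX.fiberι (pX x)) := by rw [Scheme.Hom.range_fiberι]; exact hy
  have h' : w ∈ (pX.fiberι (pX x)) ⁻¹' O := hyO
  rw [hOeq] at h'
  obtain ⟨q, hq, rfl⟩ := h'
  refine ⟨m q, hq, ?_, ?_⟩
  · rw [← Scheme.Hom.comp_apply, pullback.lift_fst, Scheme.Hom.comp_apply, Scheme.fromSpecResidueField_apply]
  · rw [← Scheme.Hom.comp_apply, pullback.lift_snd, Scheme.Hom.comp_apply]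
    exact hyU

include hregS hf in
/-- The extension exists near each point all whose generisations of codimension at most one are in the domain. -/
theorem exists_extend_group_at [IsReduced X] (hU : Dense (U : Set X)) (x : X)
    (hdense : x ∈ closure ((U : Set X) ∩ {y | pX y = pX x}))
    (hcod : ∀ x' : X, x' ⤳ x → ringKrullDim (X.presheaf.stalk x') ≤ 1 → x' ∈ U) :
    ∃ (V : X.Opens) (g : V.toScheme ⟶ G), x ∈ V ∧ g ≫ pG = V.ι ≫ pX ∧
      X.homOfLE (inf_le_right : U ⊓ V ≤ V) ≫ g = X.homOfLE (inf_le_left : U ⊓ V ≤ U) ≫ f := by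
  obtain ⟨N, gN, hxN, hgN, hagree⟩ := exists_extend_diag pX pG hregS U f hf x hcod
  obtain ⟨z₁, hz₁N, hz₁x, hz₁U⟩ := exists_mem_snd pX U x hdense N hxN
  haveI : Smooth (pullback.fst pX pX) := MorphismProperty.pullback_fst (P := @Smooth) _ _ ‹_›
  let P := pullback pX pX
  let M : P.Opens := N ⊓ pullback.snd pX pX ⁻¹ᵁ U
  let q₀ : M.toScheme ⟶ X := M.ι ≫ pullback.fst pX pX
  haveI : Smooth q₀ := inferInstanceAs (Smooth (M.ι ≫ pullback.fst pX pX))
  let sM : M.toScheme ⟶ S := M.ι ≫ pullback.fst pX pX ≫ pX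
  have ha : (P.homOfLE (inf_le_left : M ≤ N) ≫ gN) ≫ pG = sM := by
    rw [Category.assoc, hgN, Scheme.homOfLE_ι_assoc]
  have hb : (resTo U (M.ι ≫ pullback.snd pX pX) (fun m => m.2.2) ≫ f) ≫ pG = sM := over_snd pX pG U f hf _ _
  let h₀ : M.toScheme ⟶ G := pr pG sM _ _ ha hb
  have key : ∀ {T : Scheme.{u}} (ψ : T ⟶ M.toScheme) (h : ∀ t, (ψ ≫ q₀) t ∈ U),
      ψ ≫ h₀ = resTo U (ψ ≫ q₀) h ≫ f := by
    intro T ψ h
    have hmem : ∀ t, (ψ ≫ M.ι) t ∈ diagDom pX U ⊓ N := fun t => ⟨⟨h t, (ψ t).2.2⟩, (ψ t).2.1⟩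
    let ψ' := resTo (diagDom pX U ⊓ N) (ψ ≫ M.ι) hmem
    show ψ ≫ pr pG sM _ _ ha hb = _
    rw [comp_pr]
    have h1 : ψ ≫ P.homOfLE (inf_le_left : M ≤ N) = ψ' ≫ P.homOfLE (inf_le_right : diagDom pX U ⊓ N ≤ N) := by
      rw [← cancel_mono N.ι, Category.assoc, Category.assoc, Scheme.homOfLE_ι, Scheme.homOfLE_ι, resTo_ι]
    refine pr_dv pG (b := ψ ≫ resTo U (M.ι ≫ pullback.snd pX pX) (fun m => m.2.2) ≫ f)
      (by rw [Category.assoc, hf, resTo_ι_assoc]; simp only [sM, q₀, Category.assoc]) ?_ _ _ ?_ rfl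
    · rw [Category.assoc, hb]
    rw [← Category.assoc, h1, Category.assoc, hagree, ← Category.assoc, diffMap, comp_dv]
    have ea : (ψ' ≫ P.homOfLE (inf_le_left : diagDom pX U ⊓ N ≤ diagDom pX U)) ≫ (diagDom pX U).ι = ψ ≫ M.ι := by
      rw [Category.assoc, Scheme.homOfLE_ι, resTo_ι]
    congr 1
    · rw [← Category.assoc, ea, Category.assoc]
    · rw [← Category.assoc]
      congr 1
      rw [← cancel_mono U.ι, Category.assoc, resTo_ι, resTo_ι, ← Category.assoc, ea, Category.assoc]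
    · rw [← Category.assoc, ← Category.assoc ψ]
      congr 1
      simp only [← cancel_mono U.ι, Category.assoc, resTo_ι]
      rw [← Category.assoc (P.homOfLE _), ← Category.assoc ψ', ← Category.assoc ψ']
      exact (congrArg (· ≫ pullback.snd pX pX) ea).trans (Category.assoc _ _ _)
  let V : X.Opens := ⟨Set.range q₀, q₀.isOpenMap.isOpen_range⟩
  have hxV : x ∈ V := ⟨⟨z₁, hz₁N, hz₁U⟩, hz₁x⟩
  let q := q₀ ∣_ V
  haveI : Surjective q := ⟨fun v => by
    obtain ⟨m, hm⟩ := v.2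
    refine ⟨⟨m, show q₀ m ∈ V from ⟨m, rfl⟩⟩, V.ι.isOpenEmbedding.injective ?_⟩
    rw [← Scheme.Hom.comp_apply, morphismRestrict_ι]
    exact hm⟩
  haveI : Smooth q := IsZariskiLocalAtTarget.restrict (P := @Smooth) ‹Smooth q₀› V
  let h₁ : (q₀ ⁻¹ᵁ V).toScheme ⟶ G := (q₀ ⁻¹ᵁ V).ι ≫ h₀
  have hh₁ : h₁ ≫ pG = q ≫ V.ι ≫ pX := by
    show ((q₀ ⁻¹ᵁ V).ι ≫ h₀) ≫ pG = _
    rw [Category.assoc, pr_comp, morphismRestrict_ι_assoc]
    simp only [sM, q₀, Category.assoc]
  have hdesc : pullback.fst q q ≫ h₁ = pullback.snd q q ≫ h₁ := by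
    let r : pullback q q ⟶ X := pullback.fst q q ≫ q ≫ V.ι
    haveI : Smooth (pullback.fst q q) := MorphismProperty.pullback_fst (P := @Smooth) _ _ ‹Smooth q›
    haveI : Smooth r := inferInstanceAs (Smooth (pullback.fst q q ≫ q ≫ V.ι))
    haveI : IsReduced (pullback q q) := AlgSpLib.isReduced_of_smooth r
    haveI : IsDominant (r ⁻¹ᵁ U).ι :=
      ⟨by rw [DenseRange, Scheme.Opens.range_ι]; exact hU.preimage r.isOpenMap⟩
    refine ext_of_isDominant_of_isSeparated pG ?_ (r ⁻¹ᵁ U).ι ?_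
    · rw [Category.assoc (pullback.fst q q) h₁, Category.assoc (pullback.snd q q) h₁, hh₁, ← Category.assoc, pullback.condition, Category.assoc]
    have h1 : ((r ⁻¹ᵁ U).ι ≫ pullback.fst q q ≫ (q₀ ⁻¹ᵁ V).ι) ≫ q₀ = (r ⁻¹ᵁ U).ι ≫ r := by
      show _ = (r ⁻¹ᵁ U).ι ≫ pullback.fst q q ≫ q ≫ V.ι
      rw [morphismRestrict_ι, Category.assoc, Category.assoc]
    have h2 : ((r ⁻¹ᵁ U).ι ≫ pullback.snd q q ≫ (q₀ ⁻¹ᵁ V).ι) ≫ q₀ = (r ⁻¹ᵁ U).ι ≫ r := by
      show _ = (r ⁻¹ᵁ U).ι ≫ pullback.fst q q ≫ q ≫ V.ι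
      rw [pullback.condition_assoc, morphismRestrict_ι, Category.assoc, Category.assoc]
    have hr : ∀ t, ((r ⁻¹ᵁ U).ι ≫ r) t ∈ U := fun t => t.2
    simp only [h₁, ← Category.assoc]
    rw [key _ (fun t => by simp only [Category.assoc] at h1 ⊢; rw [h1]; exact hr t),
      key _ (fun t => by simp only [Category.assoc] at h2 ⊢; rw [h2]; exact hr t)]
    congr 1
    rw [← cancel_mono U.ι, resTo_ι, resTo_ι]
    simp only [Category.assoc] at h1 h2 ⊢
    rw [h1, h2]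
  let A : Over S := Over.mk (q ≫ V.ι ≫ pX)
  let B : Over S := Over.mk (V.ι ≫ pX)
  let p : A ⟶ B := Over.homMk q rfl
  haveI : Flat p.left := inferInstanceAs (Flat q)
  haveI : LocallyOfFinitePresentation p.left := inferInstanceAs (LocallyOfFinitePresentation q)
  haveI : Surjective p.left := ‹Surjective q›
  obtain ⟨g, hg⟩ := Groth.Agent.MonoQuot.exists_desc_over p (Over.homMk h₁ hh₁ : A ⟶ Over.mk pG) fun T a b hab => by
    apply Over.OverMorphism.ext
    have hab' : a.left ≫ q = b.left ≫ q := congrArg CommaMorphism.left hab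
    have := congrArg (fun m => pullback.lift a.left b.left hab' ≫ m) hdesc
    simpa only [pullback.lift_fst_assoc, pullback.lift_snd_assoc, Over.comp_left, Over.homMk_left] using this
  have hg' : q ≫ g.left = h₁ := congrArg CommaMorphism.left hg
  refine ⟨V, g.left, hxV, Over.w g, ?_⟩
  let q' := q₀ ∣_ (U ⊓ V)
  haveI : Surjective q' := ⟨fun v => by
    obtain ⟨m, hm⟩ := v.2.2
    refine ⟨⟨m, show q₀ m ∈ U ⊓ V from hm.symm ▸ v.2⟩, (U ⊓ V).ι.isOpenEmbedding.injective ?_⟩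
    rw [← Scheme.Hom.comp_apply, morphismRestrict_ι]
    exact hm⟩
  haveI : Smooth q' := IsZariskiLocalAtTarget.restrict (P := @Smooth) ‹Smooth q₀› _
  haveI : Epi q' := Flat.epi_of_flat_of_surjective q'
  rw [← cancel_epi q']
  let j := M.toScheme.homOfLE (show q₀ ⁻¹ᵁ (U ⊓ V) ≤ q₀ ⁻¹ᵁ V from fun m hm => hm.2)
  have hj : j ≫ q = q' ≫ X.homOfLE (inf_le_right : U ⊓ V ≤ V) := by
    rw [← cancel_mono V.ι, Category.assoc, Category.assoc, morphismRestrict_ι, Scheme.homOfLE_ι_assoc, Scheme.homOfLE_ι,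
      morphismRestrict_ι]
  rw [← Category.assoc, ← hj, Category.assoc, hg']
  show j ≫ (q₀ ⁻¹ᵁ V).ι ≫ h₀ = _
  rw [Scheme.homOfLE_ι_assoc, key (q₀ ⁻¹ᵁ (U ⊓ V)).ι (fun t => t.2.1), ← Category.assoc q']
  congr 1
  rw [← cancel_mono U.ι, resTo_ι, Category.assoc, Scheme.homOfLE_ι, morphismRestrict_ι]

include hregS hf in
/-- Extension of rational maps into group schemes. -/
theorem exists_extend_group [IsReduced X] (hdense : ∀ x : X, x ∈ closure ((U : Set X) ∩ {y | pX y = pX x}))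
    (hcod : ∀ x : X, ringKrullDim (X.presheaf.stalk x) ≤ 1 → x ∈ U) :
    ∃! g : X ⟶ G, g ≫ pG = pX ∧ U.ι ≫ g = f := by
  have hU : Dense (U : Set X) := fun x => closure_mono Set.inter_subset_left (hdense x)
  haveI : IsDominant U.ι := ⟨by rw [DenseRange, Scheme.Opens.range_ι]; exact hU⟩
  choose V g hxV hgV hagree using fun x => exists_extend_group_at pX pG hregS U f hf hU x (hdense x) (fun x' _ => hcod x')
  let W : Option X → X.Opens := fun o => o.elim U V
  let Φ : ∀ o, (W o).toScheme ⟶ G := fun o => match o with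
    | none => f
    | some x => g x
  obtain ⟨F, hF, hFj⟩ := exists_glue_family pX pG W Φ
    (by rintro (_ | x)
        · exact hf
        · exact hgV x)
    hU f (by rintro (_ | x)
             · rfl
             · exact hagree x)
  have htop : ∀ y, (𝟙 X : X ⟶ X) y ∈ ⨆ o, W o := fun y => le_iSup W (some y) (hxV y)
  refine ⟨resTo _ (𝟙 X) htop ≫ F, ⟨by rw [Category.assoc, hF, resTo_ι_assoc, Category.id_comp], ?_⟩, ?_⟩
  · rw [← Category.assoc]
    refine Eq.trans ?_ (hFj none)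
    congr 1
    rw [← cancel_mono (⨆ o, W o).ι, Category.assoc, resTo_ι, Category.comp_id]
    exact (Scheme.homOfLE_ι X _).symm
  · rintro g' ⟨hg'₁, hg'₂⟩
    refine ext_of_isDominant_of_isSeparated pG ?_ U.ι ?_
    · rw [hg'₁, Category.assoc, hF, resTo_ι_assoc, Category.id_comp]
    · rw [hg'₂, ← Category.assoc]
      refine (Eq.trans ?_ (hFj none)).symm
      congr 1
      rw [← cancel_mono (⨆ o, W o).ι, Category.assoc, resTo_ι, Category.comp_id]
      exact (Scheme.homOfLE_ι X _).symm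

end main

end WeilExtLib
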