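import Groth.Agent.WeilExtLib.Codim
import Groth.Agent.AlgSpLib.ReducedSmooth

/-!
# Smooth schemes over Dedekind domains
-/

set_option autoImplicit false
set_option linter.style.haveILetI false
set_option backward.isDefEq.respectTransparency false

universe u

open CategoryTheory Limits AlgebraicGeometry TopologicalSpace

noncomputable section

namespace WeilExtLib

variable {R : Type u} [CommRing R] [IsDedekindDomain R] {X : Scheme.{u}} (pX : X ⟶ Spec (CommRingCat.of R)) [Smooth pX]

include pX

/-- A smooth scheme over a Dedekind domain is locally Noetherian. -/
theorem isLocallyNoetherian_of_smooth : IsLocallyNoetherian X := LocallyOfFiniteType.isLocallyNoetherian pX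

/-- A smooth scheme over a Dedekind domain is reduced. -/
theorem isReduced_of_smooth_dedekind : IsReduced X := AlgSpLib.isReduced_of_smooth pX

/-- A smooth scheme over a Dedekind domain has regular local rings. -/
theorem isRegular_stalk_smooth (x : X) : IsRegularLocalRing (X.presheaf.stalk x) := by
  haveI := isLocallyNoetherian_of_smooth pX
  haveI := isRegular_stalk_dedekind (R := R) (pX x)
  exact BlowUpLib.isRegularLocalRing_stalk_of_smooth pX x

end WeilExtLib
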