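import Groth.Agent.WeilExtLib.Basic
import Groth.Agent.NormalExtLib.Glue

/-!
# Extension over points of codimension at most one
-/

set_option autoImplicit false
set_option linter.style.haveILetI false
set_option backward.isDefEq.respectTransparency false

universe u

open CategoryTheory Limits AlgebraicGeometry TopologicalSpace IsLocalRing

noncomputable section

namespace WeilExtLib

/-- A regular local domain of dimension at most one which is not a field is a discrete valuation ring. -/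
theorem isDiscreteValuationRing_of_regular (R : Type u) [CommRing R] [IsRegularLocalRing R] [IsDomain R]
    (h : ringKrullDim R ≤ 1) (hf : ¬ IsField R) : IsDiscreteValuationRing R := by
  have h1 : Module.finrank (ResidueField R) (CotangentSpace R) ≤ 1 := by
    have e := (IsRegularLocalRing.iff_finrank_cotangentSpace R).1 inferInstance
    rw [← e] at h
    exact_mod_cast h
  have h2 : IsPrincipalIdealRing R := ((tfae_of_isNoetherianRing_of_isLocalRing_of_isDomain R).out 5 0).1 h1
  exact { toIsPrincipalIdealRing := h2, not_a_field' := fun e => hf (IsLocalRing.isField_iff_maximalIdeal_eq.2 e) }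

/-- The local ring of a specialization of the generic value lies in a dominated discrete valuation ring. -/
theorem exists_factor {L O K M : Type u} [CommRing L] [CommRing O] [CommRing M] [Field K] [IsLocalRing L]
    [IsDomain O] [IsDiscreteValuationRing O] [Algebra O K] [IsFractionRing O K]
    (m : M →+* L) (hm : IsLocalHom m) (β : M →+* O) (hβ : Function.Surjective β) (ψ : L →+* K)
    (key : ∀ c, ψ (m c) = algebraMap O K (β c)) :
    ∃ φ : L →+* O, (algebraMap O K).comp φ = ψ := by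
  have hr : ∀ a : L, ∃ o : O, algebraMap O K o = ψ a := by
    intro a
    rcases ValuationRing.isInteger_or_isInteger O (ψ a) with h | ⟨c, hc⟩
    · exact h
    · by_cases hu : IsUnit c
      · refine ⟨↑hu.unit⁻¹, ?_⟩
        apply inv_injective
        rw [← hc, map_units_inv, inv_inv]
        rfl
      · by_cases ha : ψ a = 0
        · exact ⟨0, by rw [map_zero, ha]⟩
        obtain ⟨c', rfl⟩ := hβ c
        exfalso
        have h1 : ψ (m c' * a - 1) = 0 := by
          rw [map_sub, map_mul, map_one, key, hc, inv_mul_cancel₀ ha, sub_self]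
        have h2 : m c' ∈ maximalIdeal L := fun hl => hu ((hm.map_nonunit c' hl).map β)
        have h3 : m c' * a - 1 ∈ maximalIdeal L := fun hl => by
          have := hl.map ψ
          rw [h1] at this
          exact not_isUnit_zero this
        have h4 := Ideal.sub_mem _ (Ideal.mul_mem_right a _ h2) h3
        rw [sub_sub_cancel] at h4
        exact h4 isUnit_one
  choose o ho using hr
  refine ⟨{ toFun := o
            map_one' := IsFractionRing.injective O K (by rw [ho, map_one, map_one])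
            map_mul' := fun a b => IsFractionRing.injective O K (by rw [ho, map_mul, map_mul, ho, ho])
            map_zero' := IsFractionRing.injective O K (by rw [ho, map_zero, map_zero])
            map_add' := fun a b => IsFractionRing.injective O K (by rw [ho, map_add, map_add, ho, ho]) }, ?_⟩
  ext a
  exact ho a

/-- A morphism on an open subset extends over a point at which it has a lift. -/
theorem exists_extend_of_lift {S P A : Scheme.{u}} (sP : P ⟶ S) (sA : A ⟶ S) [IsIntegral P] [IsSeparated sA]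
    [LocallyOfFiniteType sA] (O : P.Opens) (hO : genericPoint P ∈ O) (g : O.toScheme ⟶ A) (hg : g ≫ sA = O.ι ≫ sP)
    (ξ : P) (l : Spec (P.presheaf.stalk ξ) ⟶ A) (hl₁ : l ≫ sA = P.fromSpecStalk ξ ≫ sP)
    (hl₂ : Spec.map (P.presheaf.stalkSpecializes ((genericPoint_spec P).specializes trivial : genericPoint P ⤳ ξ)) ≫ l =
      O.fromSpecStalkOfMem (genericPoint P) hO ≫ g) :
    ∃ (W : P.Opens) (fW : W.toScheme ⟶ A), ξ ∈ W ∧ fW ≫ sA = W.ι ≫ sP ∧
      P.homOfLE (inf_le_right : O ⊓ W ≤ W) ≫ fW = P.homOfLE (inf_le_left : O ⊓ W ≤ O) ≫ g := by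
  let η := genericPoint P
  have hsp : η ⤳ ξ := (genericPoint_spec P).specializes trivial
  obtain ⟨W, hξW, fW, hfac, hover⟩ := spread_out_of_isGermInjective' sP sA (x := ξ) l hl₁
  refine ⟨W, fW, hξW, hover, ?_⟩
  have hηW : η ∈ W := hsp.mem_open W.2 hξW
  let T := (O ⊓ W).toScheme
  let j : Spec (P.presheaf.stalk η) ⟶ T := (O ⊓ W).fromSpecStalkOfMem η (show η ∈ O ⊓ W from ⟨hO, hηW⟩)
  haveI : IsDominant j := by
    refine ⟨fun z => ?_⟩
    have hgen : (O ⊓ W).ι (j (IsLocalRing.closedPoint _)) = η := by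
      rw [← Scheme.Hom.comp_apply, Scheme.Opens.fromSpecStalkOfMem_ι, Scheme.fromSpecStalk_closedPoint]
    refine closure_mono (show {j (IsLocalRing.closedPoint _)} ⊆ Set.range j from Set.singleton_subset_iff.2 ⟨_, rfl⟩) ?_
    rw [← specializes_iff_mem_closure, ← (O ⊓ W).ι.isOpenEmbedding.isInducing.specializes_iff, hgen]
    exact (genericPoint_spec P).specializes trivial
  refine ext_of_isDominant_of_isSeparated sA ?_ j ?_
  · rw [Category.assoc, Category.assoc, hover, hg, Scheme.homOfLE_ι_assoc, Scheme.homOfLE_ι_assoc]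
  · have e₁ : j ≫ P.homOfLE (inf_le_left : O ⊓ W ≤ O) = O.fromSpecStalkOfMem η hO := by
      rw [← cancel_mono O.ι, Category.assoc, Scheme.homOfLE_ι, Scheme.Opens.fromSpecStalkOfMem_ι,
        Scheme.Opens.fromSpecStalkOfMem_ι]
    have e₂ : j ≫ P.homOfLE (inf_le_right : O ⊓ W ≤ W) =
        Spec.map (P.presheaf.stalkSpecializes hsp) ≫ W.fromSpecStalkOfMem ξ hξW := by
      rw [← cancel_mono W.ι, Category.assoc, Scheme.homOfLE_ι, Scheme.Opens.fromSpecStalkOfMem_ι, Category.assoc,
        Scheme.Opens.fromSpecStalkOfMem_ι, Scheme.SpecMap_stalkSpecializes_fromSpecStalk]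
    rw [← Category.assoc, e₂, Category.assoc, ← hfac, ← Category.assoc, e₁]
    exact hl₂

/-- A section of a closed separated morphism of finite type extends over a regular point of codimension at most one. -/
theorem exists_extend_section {X Y : Scheme.{u}} [IsLocallyNoetherian Y] (f : X ⟶ Y) [IsSeparated f]
    [LocallyOfFiniteType f] (hcl : IsClosedMap f.base) (V : Y.Opens) (hV : Dense (V : Set Y))
    (s : V.toScheme ⟶ X) (hs : s ≫ f = V.ι) (y : Y) (hreg : IsRegularLocalRing (Y.presheaf.stalk y))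
    (hd : ringKrullDim (Y.presheaf.stalk y) ≤ 1) :
    ∃ (W : Y.Opens) (h : W.toScheme ⟶ X), y ∈ W ∧ h ≫ f = W.ι ∧
      Y.homOfLE (inf_le_right : V ⊓ W ≤ W) ≫ h = Y.homOfLE (inf_le_left : V ⊓ W ≤ V) ≫ s := by
  by_cases hyV : y ∈ V
  · exact ⟨V, s, hyV, hs, rfl⟩
  haveI : IsDomain (Y.presheaf.stalk y) := CommAlgDim.isDomain_of_isRegularLocalRing _
  obtain ⟨U, hyU, -, hU, hUint⟩ := exists_integral_nhd y ⊤ trivial
  haveI := hUint
  let P := U.toScheme
  let η := genericPoint P
  let ξ₀ : P := ⟨y, hyU⟩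
  let O : P.Opens := U.ι ⁻¹ᵁ V
  have hO : η ∈ O := by
    obtain ⟨z, hzU, hzV⟩ : ((U : Set Y) ∩ (V : Set Y)).Nonempty := hV.inter_open_nonempty _ U.2 ⟨y, hyU⟩
    exact ((genericPoint_spec P).specializes trivial : η ⤳ (⟨z, hzU⟩ : P)).mem_open O.2 hzV
  let g : O.toScheme ⟶ X := (U.ι ∣_ V) ≫ s
  have hg : g ≫ f = O.ι ≫ U.ι := by
    simp only [g, Category.assoc, hs]
    exact morphismRestrict_ι U.ι V
  let i₁ : Spec P.functionField ⟶ X := O.fromSpecStalkOfMem η hO ≫ g
  have hi₁ : i₁ ≫ f = P.fromSpecStalk η ≫ U.ι := by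
    simp only [i₁, Category.assoc, hg]
    rw [← Category.assoc, Scheme.Opens.fromSpecStalkOfMem_ι]
  let x₀ := i₁ (closedPoint P.functionField)
  have hx₀ : f x₀ = U.ι η := by
    rw [← Scheme.Hom.comp_apply, hi₁, Scheme.Hom.comp_apply, Scheme.fromSpecStalk_closedPoint]
  have hspec : η ⤳ ξ₀ := (genericPoint_spec P).specializes trivial
  obtain ⟨x, hx, rfl⟩ : y ∈ f '' closure ({x₀} : Set X) := by
    have h1 : U.ι η ⤳ y := hspec.map U.ι.continuous
    exact h1.mem_closed (hcl _ isClosed_closure) ⟨x₀, subset_closure rfl, hx₀⟩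
  let ξ : P := ⟨f x, hyU⟩
  have hsp : η ⤳ ξ := (genericPoint_spec P).specializes trivial
  let β : Y.presheaf.stalk (f x) ⟶ P.presheaf.stalk ξ := U.ι.stalkMap ξ
  haveI : IsIso β := inferInstanceAs (IsIso (U.ι.stalkMap ξ))
  haveI : IsRegularLocalRing (P.presheaf.stalk ξ) := by
    haveI := hreg
    exact IsRegularLocalRing.of_ringEquiv (asIso β).commRingCatIsoToRingEquiv
  have hd' : ringKrullDim (P.presheaf.stalk ξ) ≤ 1 := by
    rwa [← ringKrullDim_eq_of_ringEquiv (asIso β).commRingCatIsoToRingEquiv]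
  have hnf : ¬ IsField (P.presheaf.stalk ξ) := by
    intro hfld
    letI := hfld.toField
    have hm : η ∈ Set.range (P.fromSpecStalk ξ) := by rw [Scheme.range_fromSpecStalk]; exact hsp
    obtain ⟨z, hz⟩ := hm
    haveI : Subsingleton ↥(Spec (P.presheaf.stalk ξ)) := inferInstanceAs (Subsingleton (PrimeSpectrum (P.presheaf.stalk ξ)))
    rw [Subsingleton.elim z (closedPoint (P.presheaf.stalk ξ)), Scheme.fromSpecStalk_closedPoint] at hz
    exact hyV (show ξ ∈ O from hz ▸ hO)
  haveI := isDiscreteValuationRing_of_regular _ hd' hnf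
  have hψ : x₀ ⤳ x := specializes_iff_mem_closure.2 hx
  let ψ : X.presheaf.stalk x ⟶ P.functionField := X.presheaf.stalkSpecializes hψ ≫ Scheme.stalkClosedPointTo i₁
  have hψ₁ : Spec.map ψ ≫ X.fromSpecStalk x = i₁ := by
    show Spec.map (X.presheaf.stalkSpecializes hψ ≫ Scheme.stalkClosedPointTo i₁) ≫ _ = _
    rw [Spec.map_comp, Category.assoc, Scheme.SpecMap_stalkSpecializes_fromSpecStalk,
      Scheme.Spec_stalkClosedPointTo_fromSpecStalk]
  have hsq : f.stalkMap x ≫ ψ = β ≫ CommRingCat.ofHom (algebraMap (P.presheaf.stalk ξ) P.functionField) := by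
    refine Spec.map_injective ?_
    rw [← cancel_mono (Y.fromSpecStalk (f x)), Spec.map_comp (f.stalkMap x) ψ, Category.assoc,
      Scheme.SpecMap_stalkMap_fromSpecStalk, ← Category.assoc, hψ₁, hi₁, Spec.map_comp β, Category.assoc]
    rw [show Spec.map β ≫ Y.fromSpecStalk (f x) = P.fromSpecStalk ξ ≫ U.ι from Scheme.SpecMap_stalkMap_fromSpecStalk U.ι]
    show _ = Spec.map (P.presheaf.stalkSpecializes hsp) ≫ P.fromSpecStalk ξ ≫ U.ι
    rw [Scheme.SpecMap_stalkSpecializes_fromSpecStalk_assoc]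
  obtain ⟨φ', hφ'⟩ := exists_factor (f.stalkMap x).hom inferInstance β.hom
    (ConcreteCategory.bijective_of_isIso β).2 ψ.hom (fun c => congr($hsq c))
  let φ : X.presheaf.stalk x ⟶ P.presheaf.stalk ξ := CommRingCat.ofHom φ'
  have hφ : φ ≫ CommRingCat.ofHom (algebraMap (P.presheaf.stalk ξ) P.functionField) = ψ := CommRingCat.hom_ext hφ'
  have hφ₂ : f.stalkMap x ≫ φ = β := by
    haveI : Mono (CommRingCat.ofHom (algebraMap (P.presheaf.stalk ξ) P.functionField)) :=
      ConcreteCategory.mono_of_injective _ (IsFractionRing.injective _ _)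
    rw [← cancel_mono (CommRingCat.ofHom (algebraMap (P.presheaf.stalk ξ) P.functionField)), Category.assoc, hφ, hsq]
  obtain ⟨W₀, fW, hξW, hfW, hagree⟩ := exists_extend_of_lift U.ι f O hO g hg ξ (Spec.map φ ≫ X.fromSpecStalk x)
    (by
      rw [Category.assoc, ← Scheme.SpecMap_stalkMap_fromSpecStalk f, ← Category.assoc, ← Spec.map_comp, hφ₂]
      exact Scheme.SpecMap_stalkMap_fromSpecStalk U.ι)
    (by
      rw [← Category.assoc]
      show (Spec.map (CommRingCat.ofHom (algebraMap (P.presheaf.stalk ξ) P.functionField)) ≫ Spec.map φ) ≫ _ = _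
      rw [← Spec.map_comp, hφ, hψ₁])
  let W : Y.Opens := U.ι ''ᵁ W₀
  refine ⟨W, (U.ι.isoImage W₀).inv ≫ fW, ⟨ξ, hξW, rfl⟩, ?_, ?_⟩
  · rw [Category.assoc, hfW]
    exact Scheme.Hom.isoImage_inv_ι U.ι W₀
  let k : (V ⊓ W).toScheme ⟶ (O ⊓ W₀).toScheme := IsOpenImmersion.lift ((O ⊓ W₀).ι ≫ U.ι) (V ⊓ W).ι (by
    rintro _ ⟨⟨z, hzV, w, hw, rfl⟩, rfl⟩
    exact ⟨⟨w, hzV, hw⟩, rfl⟩)
  have hk : k ≫ (O ⊓ W₀).ι ≫ U.ι = (V ⊓ W).ι := IsOpenImmersion.lift_fac _ _ _
  have e1 : k ≫ P.homOfLE (inf_le_right : O ⊓ W₀ ≤ W₀) = Y.homOfLE (inf_le_right : V ⊓ W ≤ W) ≫ (U.ι.isoImage W₀).inv := by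
    rw [← cancel_mono W₀.ι, ← cancel_mono U.ι, Category.assoc, Category.assoc, Category.assoc, Category.assoc,
      Scheme.Hom.isoImage_inv_ι, Scheme.homOfLE_ι, Scheme.homOfLE_ι_assoc, hk]
  have e2 : k ≫ P.homOfLE (inf_le_left : O ⊓ W₀ ≤ O) ≫ (U.ι ∣_ V) = Y.homOfLE (inf_le_left : V ⊓ W ≤ V) := by
    rw [← cancel_mono V.ι, Category.assoc, Category.assoc, morphismRestrict_ι, Scheme.homOfLE_ι_assoc, Scheme.homOfLE_ι]
    exact hk
  rw [← Category.assoc, ← e1, Category.assoc, hagree, ← e2]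
  simp only [g, Category.assoc]
  rfl

/-- Sections extend over all regular points of codimension at most one. -/
theorem exists_extend_sections {X Y : Scheme.{u}} [IsLocallyNoetherian Y] [IsReduced Y]
    (hreg : ∀ y : Y, ringKrullDim (Y.presheaf.stalk y) ≤ 1 → IsRegularLocalRing (Y.presheaf.stalk y))
    (f : X ⟶ Y) [IsSeparated f] [LocallyOfFiniteType f] (hcl : IsClosedMap f.base)
    (V : Y.Opens) (hV : Dense (V : Set Y)) (s : V.toScheme ⟶ X) (hs : s ≫ f = V.ι) :
    ∃ (U : Y.Opens) (hVU : V ≤ U) (s' : U.toScheme ⟶ X), s' ≫ f = U.ι ∧ Y.homOfLE hVU ≫ s' = s ∧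
      ∀ y : Y, ringKrullDim (Y.presheaf.stalk y) ≤ 1 → y ∈ U := by
  choose W h hy hf hg using fun y : {y : Y // ringKrullDim (Y.presheaf.stalk y) ≤ 1} =>
    exists_extend_section f hcl V hV s hs y.1 (hreg y.1 y.2) y.2
  let U : Option {y : Y // ringKrullDim (Y.presheaf.stalk y) ≤ 1} → Y.Opens := fun o => o.elim V W
  let F : ∀ o, (U o).toScheme ⟶ X := fun o => match o with
    | none => s
    | some y => h y
  obtain ⟨S, hS, hSj⟩ := exists_glue_family (𝟙 Y) f U F
    (by rintro (_ | y)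
        · rw [Category.comp_id]; exact hs
        · rw [Category.comp_id]; exact hf y)
    hV s (by rintro (_ | y)
             · rfl
             · exact hg y)
  exact ⟨⨆ o, U o, le_iSup U none, S, by rw [hS, Category.comp_id], hSj none,
    fun y hy' => le_iSup U (some ⟨y, hy'⟩) (hy ⟨y, hy'⟩)⟩

/-- Morphisms to proper schemes extend over all regular points of codimension at most one. -/
theorem exists_extend_proper {S X Y : Scheme.{u}} (p : X ⟶ S) [IsProper p] (q : Y ⟶ S) [IsLocallyNoetherian Y]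
    [IsReduced Y] (hreg : ∀ y : Y, ringKrullDim (Y.presheaf.stalk y) ≤ 1 → IsRegularLocalRing (Y.presheaf.stalk y))
    (V : Y.Opens) (hV : Dense (V : Set Y)) (g : V.toScheme ⟶ X) (hg : g ≫ p = V.ι ≫ q) :
    ∃ (U : Y.Opens) (hVU : V ≤ U) (g' : U.toScheme ⟶ X), g' ≫ p = U.ι ≫ q ∧ Y.homOfLE hVU ≫ g' = g ∧
      ∀ y : Y, ringKrullDim (Y.presheaf.stalk y) ≤ 1 → y ∈ U := by
  obtain ⟨U, hVU, s, hs, hsV, hU⟩ := exists_extend_sections hreg (pullback.fst q p)
    (pullback.fst q p).isClosedMap V hV (pullback.lift V.ι g hg.symm) (pullback.lift_fst _ _ _)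
  refine ⟨U, hVU, s ≫ pullback.snd q p, ?_, ?_, hU⟩
  · rw [Category.assoc, ← pullback.condition, ← Category.assoc, hs]
  · rw [← Category.assoc, hsV, pullback.lift_snd]

/-- Dimensions which are not at most one are at least two. -/
theorem two_le_of_not_le_one {a : WithBot ℕ∞} (h : ¬ a ≤ 1) : 2 ≤ a := by
  cases a with
  | bot => exact absurd bot_le h
  | coe b =>
    refine WithBot.coe_le_coe.2 (Order.add_one_le_of_lt (lt_of_not_ge fun hb => h (WithBot.coe_le_coe.2 hb)) |>.trans' ?_)
    norm_num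

end WeilExtLib
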