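import Groth.Agent.BlowUpLib.RegBlow
import Groth.Agent.RegUFDLib.Basic
import Groth.Agent.CommAlgDim.Regular
import Mathlib

/-!
# Extending morphisms: gluing and local integrality
-/

set_option autoImplicit false
set_option linter.style.haveILetI false
set_option backward.isDefEq.respectTransparency false

universe u v

open CategoryTheory Limits AlgebraicGeometry TopologicalSpace

noncomputable section

namespace WeilExtLib

variable {X S A : Scheme.{u}}

/-- The trace of a dense open subset on an open subset is dominant. -/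
theorem isDominant_homOfLE {D W : X.Opens} (hD : Dense (D : Set X)) :
    IsDominant (X.homOfLE (inf_le_right : D ⊓ W ≤ W)) := by
  refine ⟨fun w => ?_⟩
  rw [W.ι.isOpenEmbedding.isInducing.closure_eq_preimage_closure_image, Set.mem_preimage]
  have h1 : W.ι w ∈ closure ((W : Set X) ∩ (D : Set X)) := hD.open_subset_closure_inter W.2 w.2
  refine closure_mono ?_ h1
  intro y hy
  refine ⟨X.homOfLE (inf_le_right : D ⊓ W ≤ W) ⟨y, hy.2, hy.1⟩, ⟨_, rfl⟩, ?_⟩
  rw [← Scheme.Hom.comp_apply, Scheme.homOfLE_ι]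
  rfl

/-- Morphisms on an open subset of a reduced scheme agreeing on a dense open subset are equal. -/
theorem hom_ext_dense [IsReduced X] (sA : A ⟶ S) [IsSeparated sA] {D W : X.Opens} (hD : Dense (D : Set X))
    {a b : W.toScheme ⟶ A} (hs : a ≫ sA = b ≫ sA)
    (h : X.homOfLE (inf_le_right : D ⊓ W ≤ W) ≫ a = X.homOfLE (inf_le_right : D ⊓ W ≤ W) ≫ b) : a = b :=
  haveI := isDominant_homOfLE (W := W) hD
  ext_of_isDominant_of_isSeparated sA hs _ h

/-- Compatible extensions glue. -/
theorem exists_glue_family [IsReduced X] (sX : X ⟶ S) (sA : A ⟶ S) [IsSeparated sA] {J : Type v} (U : J → X.Opens)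
    (f : ∀ j, (U j).toScheme ⟶ A) (hf : ∀ j, f j ≫ sA = (U j).ι ≫ sX) {D : X.Opens} (hD : Dense (D : Set X))
    (g : D.toScheme ⟶ A)
    (hg : ∀ j, X.homOfLE (inf_le_right : D ⊓ U j ≤ U j) ≫ f j = X.homOfLE (inf_le_left : D ⊓ U j ≤ D) ≫ g) :
    ∃ F : (⨆ j, U j).toScheme ⟶ A, F ≫ sA = (⨆ j, U j).ι ≫ sX ∧ ∀ j, X.homOfLE (le_iSup U j) ≫ F = f j := by
  let 𝒰 := Scheme.Opens.iSupOpenCover U
  have hc : ∀ i j : J, pullback.fst (X.homOfLE (le_iSup U i)) (X.homOfLE (le_iSup U j)) ≫ f i =
      pullback.snd (X.homOfLE (le_iSup U i)) (X.homOfLE (le_iSup U j)) ≫ f j := by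
    intro i j
    have key : X.homOfLE (inf_le_left : U i ⊓ U j ≤ U i) ≫ f i = X.homOfLE (inf_le_right : U i ⊓ U j ≤ U j) ≫ f j := by
      refine hom_ext_dense sA hD (by rw [Category.assoc, Category.assoc, hf, hf, Scheme.homOfLE_ι_assoc, Scheme.homOfLE_ι_assoc]) ?_
      have e : ∀ l (hl : U i ⊓ U j ≤ U l),
          X.homOfLE (inf_le_right : D ⊓ (U i ⊓ U j) ≤ U i ⊓ U j) ≫ X.homOfLE hl ≫ f l =
            X.homOfLE (inf_le_left : D ⊓ (U i ⊓ U j) ≤ D) ≫ g := by
        intro l hl
        rw [Scheme.homOfLE_homOfLE_assoc, ← Scheme.homOfLE_homOfLE X (le_inf inf_le_left (inf_le_right.trans hl) : D ⊓ (U i ⊓ U j) ≤ D ⊓ U l)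
          (inf_le_right : D ⊓ U l ≤ U l), Category.assoc, hg, Scheme.homOfLE_homOfLE_assoc]
      rw [e i inf_le_left, e j inf_le_right]
    let P := pullback (X.homOfLE (le_iSup U i)) (X.homOfLE (le_iSup U j))
    have hi : pullback.fst (X.homOfLE (le_iSup U i)) (X.homOfLE (le_iSup U j)) ≫ (U i).ι =
        pullback.snd (X.homOfLE (le_iSup U i)) (X.homOfLE (le_iSup U j)) ≫ (U j).ι := by
      rw [← Scheme.homOfLE_ι X (le_iSup U i), ← Scheme.homOfLE_ι X (le_iSup U j), ← Category.assoc, pullback.condition,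
        Category.assoc]
    let l : P ⟶ (U i ⊓ U j).toScheme := IsOpenImmersion.lift (U i ⊓ U j).ι
      (pullback.fst (X.homOfLE (le_iSup U i)) (X.homOfLE (le_iSup U j)) ≫ (U i).ι) (by
        rintro _ ⟨p, rfl⟩
        rw [Scheme.Opens.range_ι]
        refine ⟨(pullback.fst (X.homOfLE (le_iSup U i)) (X.homOfLE (le_iSup U j)) p).2, ?_⟩
        rw [hi]
        exact (pullback.snd (X.homOfLE (le_iSup U i)) (X.homOfLE (le_iSup U j)) p).2)
    have h1 : l ≫ X.homOfLE (inf_le_left : U i ⊓ U j ≤ U i) = pullback.fst _ _ := by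
      rw [← cancel_mono (U i).ι, Category.assoc, Scheme.homOfLE_ι, IsOpenImmersion.lift_fac]
    have h2 : l ≫ X.homOfLE (inf_le_right : U i ⊓ U j ≤ U j) = pullback.snd _ _ := by
      rw [← cancel_mono (U j).ι, Category.assoc, Scheme.homOfLE_ι, IsOpenImmersion.lift_fac, hi]
    rw [← h1, ← h2, Category.assoc, Category.assoc, key]
  refine ⟨𝒰.glueMorphisms f hc, 𝒰.hom_ext _ _ fun j => ?_, fun j => 𝒰.ι_glueMorphisms f hc j⟩
  show X.homOfLE (le_iSup U j) ≫ 𝒰.glueMorphisms f hc ≫ sA = X.homOfLE (le_iSup U j) ≫ _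
  rw [← Category.assoc, show X.homOfLE (le_iSup U j) ≫ 𝒰.glueMorphisms f hc = f j from 𝒰.ι_glueMorphisms f hc j, hf,
    Scheme.homOfLE_ι_assoc]

/-- A point with integral local ring has an integral affine neighbourhood. -/
theorem exists_integral_nhd [X.IsGermInjective] (x : X) [IsDomain (X.presheaf.stalk x)] (V : X.Opens) (hx : x ∈ V) :
    ∃ U : X.Opens, x ∈ U ∧ U ≤ V ∧ IsAffineOpen U ∧ IsIntegral U.toScheme := by
  obtain ⟨U, hxU, hU, hUV, hinj⟩ := X.exists_le_and_germ_injective x V hx
  haveI : IsDomain Γ(X, U) := hinj.isDomain (X.presheaf.germ U x hxU).hom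
  haveI : IsIntegral (Spec Γ(X, U)) := inferInstance
  haveI : Nonempty U.toScheme := ⟨⟨x, hxU⟩⟩
  exact ⟨U, hxU, hUV, hU, isIntegral_of_isOpenImmersion hU.isoSpec.hom⟩

/-- The local rings of the spectrum of a Dedekind domain are regular. -/
theorem isRegular_stalk_dedekind {R : Type u} [CommRing R] [IsDedekindDomain R] (s : Spec (CommRingCat.of R)) :
    IsRegularLocalRing ((Spec (CommRingCat.of R)).presheaf.stalk s) := by
  let p : Ideal R := (show PrimeSpectrum R from s).asIdeal
  haveI : p.IsPrime := (show PrimeSpectrum R from s).2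
  haveI : IsPrincipalIdealRing (Localization.AtPrime p) := by
    by_cases hp : p = ⊥
    · haveI : IsFractionRing R (Localization.AtPrime p) := by
        have h : p.primeCompl = nonZeroDivisors R := by
          ext r; simp [Ideal.primeCompl, hp, mem_nonZeroDivisors_iff_ne_zero]
        show IsLocalization (nonZeroDivisors R) (Localization.AtPrime p)
        rw [← h]; infer_instance
      letI : Field (Localization.AtPrime p) := IsFractionRing.toField R
      infer_instance
    · haveI := IsLocalization.AtPrime.isDiscreteValuationRing_of_dedekind_domain R hp (Localization.AtPrime p)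
      infer_instance
  haveI : IsRegularLocalRing (Localization.AtPrime p) := inferInstance
  haveI := IsRegularLocalRing.of_ringEquiv (IsLocalization.algEquiv p.primeCompl (Localization.AtPrime p)
    ((Spec.structureSheaf R).presheaf.stalk s)).toRingEquiv
  exact ‹_›

end WeilExtLib
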